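import Mathlib.FieldTheory.IsAlgClosed.AlgebraicClosure
import Mathlib.FieldTheory.AlgebraicClosure
import Mathlib.RingTheory.Spectrum.Prime.Topology
import Mathlib.RingTheory.Artinian.Module
import Mathlib.RingTheory.TensorProduct.Basic
import Mathlib.RingTheory.TensorProduct.Finite
import Mathlib.RingTheory.Jacobson.Ring
import Mathlib.RingTheory.Spectrum.Prime.Noetherian
import Mathlib.RingTheory.Flat.Basic

/-!
Idempotents of `L ⊗ E` for a finite extension `E` and elements defined over an intersection of fields.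
-/

set_option autoImplicit false
set_option linter.style.haveILetI false
universe u

open TensorProduct

noncomputable section

namespace Groth.Agent.QuotEdLib

variable {K : Type u} [Field K] {E : Type u} [Field E] [Algebra K E]

/-- Extension of scalars. -/
abbrev bc {V W : Type u} [CommRing V] [Algebra K V] [CommRing W] [Algebra K W] (f : V →ₐ[K] W) :
    V ⊗[K] E →ₐ[K] W ⊗[K] E :=
  Algebra.TensorProduct.map f (AlgHom.id K E)

/-- A coordinate. -/
def coord {ι : Type*} (b : Module.Basis ι K E) (V : Type u) [AddCommGroup V] [Module K V] (i : ι) :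
    V ⊗[K] E →ₗ[K] V :=
  (TensorProduct.rid K V).toLinearMap ∘ₗ (b.coord i).lTensor V

theorem coord_bc {ι : Type*} (b : Module.Basis ι K E) {V W : Type u} [CommRing V] [Algebra K V] [CommRing W]
    [Algebra K W] (f : V →ₐ[K] W) (z : V ⊗[K] E) (i : ι) : coord b W i (bc f z) = f (coord b V i z) := by
  induction z with
  | zero => simp
  | add p q hp hq => simp only [map_add, hp, hq]
  | tmul v e => simp [coord]

theorem sum_coord {ι : Type*} [Fintype ι] (b : Module.Basis ι K E) {V : Type u} [AddCommGroup V] [Module K V]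
    (z : V ⊗[K] E) : ∑ i, coord b V i z ⊗ₜ[K] b i = z := by
  induction z with
  | zero => simp
  | add p q hp hq => simp only [map_add, add_tmul, Finset.sum_add_distrib, hp, hq]
  | tmul v e =>
    simp only [coord, LinearMap.comp_apply, LinearEquiv.coe_coe, LinearMap.lTensor_tmul, TensorProduct.rid_tmul,
      smul_tmul, ← tmul_sum, Module.Basis.coord_apply, b.sum_repr]

theorem bc_injective {V W : Type u} [CommRing V] [Algebra K V] [CommRing W] [Algebra K W] (f : V →ₐ[K] W)
    (hf : Function.Injective f) : Function.Injective (bc (E := E) f) :=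
  Module.Flat.rTensor_preserves_injective_linearMap (M := E) f.toLinearMap hf

theorem comap_bc_surjective [FiniteDimensional K E] {V W : Type u} [Field V] [Algebra K V] [Field W] [Algebra K W]
    (f : V →ₐ[K] W) : Function.Surjective (PrimeSpectrum.comap (bc (E := E) f).toRingHom) := by
  haveI : IsArtinianRing (V ⊗[K] E) := IsArtinianRing.of_finite V _
  intro p
  obtain ⟨q, hq, h⟩ := Ideal.exists_comap_eq_of_mem_minimalPrimes_of_injective
    (f := (bc (E := E) f).toRingHom) (bc_injective f f.injective) p.asIdeal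
    (by
      haveI := p.2
      refine ⟨⟨p.2, bot_le⟩, fun J hJ hle => ?_⟩
      haveI := hJ.1
      exact (Ideal.IsMaximal.eq_of_le inferInstance p.2.ne_top hle).ge)
  exact ⟨⟨q, hq⟩, PrimeSpectrum.ext h⟩

section Idem

variable [FiniteDimensional K E] {L : Type u} [Field L] [Algebra K L]

theorem exists_char (Ω : Type u) [Field Ω] [IsAlgClosed Ω] [Algebra K Ω] (s : Ideal (Ω ⊗[K] E)) [s.IsPrime] :
    ∃ χ : Ω ⊗[K] E →ₐ[Ω] Ω, RingHom.ker χ.toRingHom = s := by
  haveI : IsDomain ((Ω ⊗[K] E) ⧸ s) := Ideal.Quotient.isDomain s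
  haveI : Algebra.IsIntegral Ω ((Ω ⊗[K] E) ⧸ s) := Algebra.IsIntegral.of_finite Ω _
  let e := AlgEquiv.ofBijective (Algebra.ofId Ω ((Ω ⊗[K] E) ⧸ s)) IsAlgClosed.algebraMap_bijective_of_isIntegral
  refine ⟨(e.symm : _ →ₐ[Ω] Ω).comp (Ideal.Quotient.mkₐ Ω s), ?_⟩
  ext x
  rw [RingHom.mem_ker]
  show e.symm (Ideal.Quotient.mk s x) = 0 ↔ _
  rw [EmbeddingLike.map_eq_zero_iff, Ideal.Quotient.eq_zero_iff_mem]

variable (K E L) in
/-- Idempotents are defined over the algebraic elements. -/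
theorem coord_isAlgebraic {ι : Type*} [Fintype ι] (b : Module.Basis ι K E) (ε : L ⊗[K] E) (hε : IsIdempotentElem ε)
    (i : ι) : IsAlgebraic K (coord b L i ε) := by
  classical
  let Ω := AlgebraicClosure L
  let A := algebraicClosure K Ω
  haveI : IsAlgClosed A := (algebraicClosure.isAlgClosure K Ω).isAlgClosed
  haveI : IsArtinianRing (A ⊗[K] E) := IsArtinianRing.of_finite A (A ⊗[K] E)
  let j : A →ₐ[K] Ω := A.val
  let c : L →ₐ[K] Ω := IsScalarTower.toAlgHom K L Ω
  have hinj : Function.Injective (PrimeSpectrum.comap (bc (E := E) j).toRingHom) := by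
    intro s s' h
    haveI := s.2; haveI := s'.2
    obtain ⟨χ, hχ⟩ := exists_char Ω s.asIdeal
    obtain ⟨χ', hχ'⟩ := exists_char Ω s'.asIdeal
    suffices χ = χ' by
      refine PrimeSpectrum.ext ?_
      rw [← hχ, ← hχ', this]
    refine Algebra.TensorProduct.ext (Subsingleton.elim _ _) (AlgHom.ext fun e => ?_)
    show χ (1 ⊗ₜ e) = χ' (1 ⊗ₜ e)
    have halg : χ (1 ⊗ₜ[K] e) ∈ A :=
      mem_algebraicClosure_iff.2 ((Algebra.IsAlgebraic.isAlgebraic (R := K) e).algHom
        ((χ.restrictScalars K).comp Algebra.TensorProduct.includeRight))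
    let z : A ⊗[K] E := 1 ⊗ₜ e - (⟨_, halg⟩ : A) ⊗ₜ 1
    have hz : ∀ (ψ : Ω ⊗[K] E →ₐ[Ω] Ω), ψ (bc j z) = ψ (1 ⊗ₜ e) - χ (1 ⊗ₜ[K] e) := fun ψ => by
      simp only [z, bc, map_sub, Algebra.TensorProduct.map_tmul, map_one, AlgHom.id_apply]
      congr 1
      show ψ ((χ (1 ⊗ₜ[K] e)) ⊗ₜ[K] 1) = _
      rw [show (χ (1 ⊗ₜ[K] e)) ⊗ₜ[K] (1 : E) = algebraMap Ω (Ω ⊗[K] E) (χ (1 ⊗ₜ[K] e)) from rfl, AlgHom.commutes]
      rfl
    have h1 : z ∈ (PrimeSpectrum.comap (bc (E := E) j).toRingHom s).asIdeal := by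
      show bc j z ∈ s.asIdeal
      rw [← hχ, RingHom.mem_ker]
      show χ (bc j z) = 0
      rw [hz, sub_self]
    rw [h] at h1
    have h2 : bc j z ∈ s'.asIdeal := h1
    rw [← hχ', RingHom.mem_ker] at h2
    have h3 : χ' (bc j z) = 0 := h2
    rw [hz, sub_eq_zero] at h3
    exact h3.symm
  let εΩ := bc c ε
  obtain ⟨ε₀, hε₀, hS⟩ := PrimeSpectrum.exists_idempotent_basicOpen_eq_of_isClopen
    (s := PrimeSpectrum.comap (bc (E := E) j).toRingHom '' (PrimeSpectrum.basicOpen εΩ : Set _))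
    ⟨isClosed_discrete _, isOpen_discrete _⟩
  have heq : bc j ε₀ = εΩ := by
    refine PrimeSpectrum.basicOpen_injOn_isIdempotentElem (hε₀.map (bc (E := E) j)) (hε.map (bc (E := E) c))
      (SetLike.coe_injective ?_)
    rw [← Set.preimage_image_eq (PrimeSpectrum.basicOpen εΩ : Set _) hinj, hS]
    rfl
  have h := coord_bc b j ε₀ i
  rw [heq, coord_bc b c ε i] at h
  have h2 : c (coord b L i ε) ∈ A := h ▸ (coord b A i ε₀).2
  exact (isAlgebraic_algHom_iff c c.injective).1 (mem_algebraicClosure_iff.1 h2)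

end Idem

variable {L L' : Type u} [Field L] [Field L'] [Algebra K L] [Algebra K L']

/-- An element of `L ⊗ E` is defined over the trace of a subfield of an overfield. -/
theorem exists_eq_bc {ι : Type*} [Fintype ι] (b : Module.Basis ι K E) (M : IntermediateField K L) (z : L ⊗[K] E)
    (h : ∀ i, coord b L i z ∈ M) : ∃ z₀ : M ⊗[K] E, bc M.val z₀ = z := by
  refine ⟨∑ i, (⟨_, h i⟩ : M) ⊗ₜ b i, ?_⟩
  simp [bc, sum_coord]

end Groth.Agent.QuotEdLib
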