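import Groth.Agent.QuotEdLib.Algebra
import Mathlib.AlgebraicGeometry.AffineScheme
import Mathlib.AlgebraicGeometry.Cover.Open
import Mathlib.AlgebraicGeometry.Gluing
import Mathlib.AlgebraicGeometry.Limits

/-!
Descending a morphism from `Spec (L ⊗ E)` to `Spec (M ⊗ E)`.
-/

set_option autoImplicit false
set_option backward.isDefEq.respectTransparency false
set_option backward.isDefEq.respectTransparency.types false
set_option linter.style.haveILetI false
set_option maxHeartbeats 800000
universe u

open CategoryTheory CategoryTheory.Limits AlgebraicGeometry TensorProduct Opposite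

noncomputable section

namespace Groth.Agent.QuotEdLib

variable {K : Type u} [Field K] {E : Type u} [Field E] [Algebra K E] [FiniteDimensional K E]
variable {L L' : Type u} [Field L] [Field L'] [Algebra K L] [Algebra K L'] [Algebra L L'] [IsScalarTower K L L']
variable (N : IntermediateField K L') (hN : ∀ x : L', IsAlgebraic K x → x ∈ N)
variable (M : IntermediateField K L) (hM : ∀ a : L, a ∈ M ↔ algebraMap L L' a ∈ N)

local notation "cL" => IsScalarTower.toAlgHom K L L'
/-- The spectrum. -/
abbrev Sp (R : Type u) [CommRing R] : Scheme.{u} := Spec (CommRingCat.of R)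

include hN hM in
theorem algebraic_mem {a : L} (ha : IsAlgebraic K a) : a ∈ M :=
  (hM a).2 (hN _ (ha.algHom cL))

include hN hM in
theorem comap_injective : Function.Injective (PrimeSpectrum.comap (bc (E := E) M.val).toRingHom) := by
  haveI : IsArtinianRing (L ⊗[K] E) := IsArtinianRing.of_finite L (L ⊗[K] E)
  intro s s' h
  by_contra hne
  let b := Module.finBasis K E
  obtain ⟨ε, hε, hS⟩ := PrimeSpectrum.exists_idempotent_basicOpen_eq_of_isClopen
    (s := ({s} : Set (PrimeSpectrum (L ⊗[K] E)))) ⟨isClosed_discrete _, isOpen_discrete _⟩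
  obtain ⟨z, rfl⟩ := exists_eq_bc b M ε fun i => algebraic_mem N hN M hM (coord_isAlgebraic K E L b ε hε i)
  have h1 : s ∈ (PrimeSpectrum.basicOpen (bc M.val z) : Set _) := hS ▸ rfl
  have h2 : s' ∉ (PrimeSpectrum.basicOpen (bc M.val z) : Set _) := hS ▸ fun h => hne h.symm
  refine h2 ?_
  show z ∉ (PrimeSpectrum.comap (bc (E := E) M.val).toRingHom s').asIdeal
  rw [← h]
  exact h1

/-- The localizations of an idempotent. -/
theorem surjective_away {R : Type u} [CommRing R] {e : R} (he : IsIdempotentElem e) :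
    Function.Surjective (algebraMap R (Localization.Away e)) := fun y => by
  obtain ⟨n, a, rfl⟩ : ∃ (n : ℕ) (a : R), IsLocalization.mk' _ a (⟨e ^ n, n, rfl⟩ : Submonoid.powers e) = y := by
    obtain ⟨a, ⟨_, n, rfl⟩, h⟩ := IsLocalization.exists_mk'_eq (Submonoid.powers e) y
    exact ⟨n, a, h⟩
  refine ⟨a, ?_⟩
  rw [IsLocalization.eq_mk'_iff_mul_eq, ← map_mul]
  rw [IsLocalization.eq_iff_exists (Submonoid.powers e)]
  refine ⟨⟨e, 1, pow_one e⟩, ?_⟩
  show e * (a * e ^ n) = e * a
  rcases n with _ | n
  · simp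
  · rw [he.pow_succ_eq n, mul_left_comm, he.eq, mul_comm]

theorem away_map_comp {R S : Type u} [CommRing R] [CommRing S] (f : R →+* S) (r : R) :
    (Localization.awayMap f r).comp (algebraMap R (Localization.Away r)) =
      (algebraMap S (Localization.Away (f r))).comp f :=
  IsLocalization.map_comp _

theorem exists_away_lift {R S : Type u} [CommRing R] [CommRing S] (g : R →+* S) (r : R) (hg : IsUnit (g r)) :
    ∃ p : Localization.Away r →+* S, p.comp (algebraMap R (Localization.Away r)) = g :=
  ⟨IsLocalization.Away.lift r hg, IsLocalization.Away.lift_comp r hg⟩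

theorem mem_of_away {R : Type u} [CommRing R] (r : R) (q : PrimeSpectrum (Localization.Away r)) :
    PrimeSpectrum.comap (algebraMap R (Localization.Away r)) q ∈ PrimeSpectrum.basicOpen r :=
  (PrimeSpectrum.localization_away_comap_range (Localization.Away r) r).le (Set.mem_range_self q)

/-- The affine cover by basic opens. -/
def awayCover {R : Type u} [CommRing R] {ι : Type u} (e : ι → R) (hcov : ∀ q, ∃ i, q ∈ PrimeSpectrum.basicOpen (e i)) :
    (Sp R).AffineOpenCover where
  I₀ := ι
  X i := .of (Localization.Away (e i))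
  f i := Spec.map (CommRingCat.ofHom (algebraMap R (Localization.Away (e i))))
  idx q := (hcov q).choose
  covers q := (PrimeSpectrum.localization_away_comap_range (Localization.Away (e (hcov q).choose))
    (e (hcov q).choose)).ge (hcov q).choose_spec

theorem hom_ext_away {R : Type u} [CommRing R] {ι : Type u} (e : ι → R)
    (hcov : ∀ q, ∃ i, q ∈ PrimeSpectrum.basicOpen (e i)) {X : Scheme.{u}} (f g : Sp R ⟶ X)
    (h : ∀ i, Spec.map (CommRingCat.ofHom (algebraMap R (Localization.Away (e i)))) ≫ f =
      Spec.map (CommRingCat.ofHom (algebraMap R (Localization.Away (e i)))) ≫ g) : f = g :=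
  Scheme.Cover.hom_ext (awayCover e hcov).openCover _ _ h

theorem exists_glue {R : Type u} [CommRing R] (e : PrimeSpectrum R → R)
    (he : ∀ r, (PrimeSpectrum.basicOpen (e r) : Set _) = {r}) {X : Scheme.{u}}
    (θ : ∀ r, Sp (Localization.Away (e r)) ⟶ X) :
    ∃ Θ : Sp R ⟶ X, ∀ r, Spec.map (CommRingCat.ofHom (algebraMap R (Localization.Away (e r)))) ≫ Θ = θ r := by
  let 𝒰 := awayCover e fun q => ⟨q, (he q).ge rfl⟩
  refine ⟨Scheme.Cover.glueMorphisms 𝒰.openCover θ (fun (r r' : PrimeSpectrum R) => ?_),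
    fun r => Scheme.Cover.ι_glueMorphisms 𝒰.openCover θ _ r⟩
  by_cases hrr : r = r'
  · subst hrr
    rw [show pullback.fst (𝒰.openCover.f r) (𝒰.openCover.f r) = pullback.snd _ _ from
      (cancel_mono (𝒰.openCover.f r)).1 pullback.condition]
  · haveI : IsEmpty ↥(pullback (𝒰.openCover.f r) (𝒰.openCover.f r')) := ⟨fun z => hrr (by
      have h1 : (pullback.fst (𝒰.openCover.f r) (𝒰.openCover.f r') ≫ 𝒰.openCover.f r) z =
          (pullback.snd (𝒰.openCover.f r) (𝒰.openCover.f r') ≫ 𝒰.openCover.f r') z :=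
        congrArg (fun g : _ ⟶ Sp R => g z) pullback.condition
      simp only [Scheme.Hom.comp_apply] at h1
      have ha : ∀ (r : PrimeSpectrum R) (q : PrimeSpectrum (Localization.Away (e r))),
          PrimeSpectrum.comap (algebraMap R (Localization.Away (e r))) q = r := fun r q =>
        (he r).le (mem_of_away (e r) q)
      exact (ha r _).symm.trans (h1.trans (ha r' _)))⟩
    exact isInitialOfIsEmpty.hom_ext _ _

include hN hM in
/-- The local step: one point. -/
theorem exists_factor_point {X : Scheme.{u}} (φ : Sp (L ⊗[K] E) ⟶ X) (ψ : Sp (N ⊗[K] E) ⟶ X)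
    (h : Spec.map (CommRingCat.ofHom (bc (E := E) cL).toRingHom) ≫ φ =
      Spec.map (CommRingCat.ofHom (bc (E := E) N.val).toRingHom) ≫ ψ) (r : PrimeSpectrum (M ⊗[K] E)) :
    ∃ (e : M ⊗[K] E) (θ : Sp (Localization.Away e) ⟶ X), (PrimeSpectrum.basicOpen e : Set _) = {r} ∧
      Spec.map (CommRingCat.ofHom (Localization.awayMap (bc (E := E) M.val).toRingHom e)) ≫ θ =
        Spec.map (CommRingCat.ofHom (algebraMap (L ⊗[K] E) (Localization.Away (bc M.val e)))) ≫ φ := by
  haveI : IsArtinianRing (M ⊗[K] E) := IsArtinianRing.of_finite M (M ⊗[K] E)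
  haveI := IsArtinianRing.instDiscreteTopologyPrimeSpectrum (M ⊗[K] E)
  obtain ⟨e, he, hS⟩ := PrimeSpectrum.exists_idempotent_basicOpen_eq_of_isClopen
    (s := ({r} : Set (PrimeSpectrum (M ⊗[K] E)))) ⟨isClosed_discrete _, isOpen_discrete _⟩
  obtain ⟨s, hs⟩ := comap_bc_surjective (E := E) M.val r
  have honly : ∀ s', s' ∈ (PrimeSpectrum.basicOpen (bc M.val e) : Set _) → s' = s := fun s' h' => by
    refine comap_injective N hN M hM ?_
    have : PrimeSpectrum.comap (bc (E := E) M.val).toRingHom s' ∈ (PrimeSpectrum.basicOpen e : Set _) := h'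
    rw [← hS] at this
    exact (Set.mem_singleton_iff.1 this).trans hs.symm
  obtain ⟨_, ⟨U, hU, rfl⟩, hsU, -⟩ := X.isBasis_affineOpens.exists_subset_of_mem_open (Set.mem_univ (φ s)) isOpen_univ
  -- the elements
  let eM : M →ₐ[K] N :=
    { toFun := fun a => ⟨algebraMap L L' a, (hM a).1 a.2⟩
      map_one' := Subtype.ext (by simp), map_mul' := fun a b => Subtype.ext (by simp)
      map_zero' := Subtype.ext (by simp), map_add' := fun a b => Subtype.ext (by simp)
      commutes' := fun a => Subtype.ext (by simp [← IsScalarTower.algebraMap_apply]) }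
  have hcomm : ∀ z : M ⊗[K] E, bc cL (bc M.val z) = bc N.val (bc eM z) := fun z => by
    induction z with
    | zero => simp
    | add p q hp hq => simp only [map_add, hp, hq]
    | tmul a b => simp [bc, eM]
  let eL := bc M.val e
  let eN := bc eM e
  have hL : Set.range (Spec.map (CommRingCat.ofHom (algebraMap (L ⊗[K] E) (Localization.Away eL))) ≫ φ) ⊆
      Set.range hU.fromSpec := by
    rintro _ ⟨q, rfl⟩
    rw [hU.range_fromSpec]
    show φ (PrimeSpectrum.comap (algebraMap (L ⊗[K] E) (Localization.Away eL)) q) ∈ U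
    have h1 := honly _ (mem_of_away eL q)
    exact Set.mem_of_eq_of_mem (congrArg φ h1) hsU
  have hNr : Set.range (Spec.map (CommRingCat.ofHom (algebraMap (N ⊗[K] E) (Localization.Away eN))) ≫ ψ) ⊆
      Set.range hU.fromSpec := by
    rintro _ ⟨q, rfl⟩
    rw [hU.range_fromSpec]
    obtain ⟨t, ht⟩ := comap_bc_surjective (E := E) N.val (PrimeSpectrum.comap (algebraMap (N ⊗[K] E) (Localization.Away eN)) q)
    show ψ (PrimeSpectrum.comap (algebraMap (N ⊗[K] E) (Localization.Away eN)) q) ∈ U
    rw [← ht]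
    have e1 : ψ (PrimeSpectrum.comap (bc (E := E) N.val).toRingHom t) =
        φ (PrimeSpectrum.comap (bc (E := E) cL).toRingHom t) := (congrArg (fun g => g t) h).symm
    show ψ (PrimeSpectrum.comap (bc (E := E) N.val).toRingHom t) ∈ U
    rw [e1, honly (PrimeSpectrum.comap (bc (E := E) cL).toRingHom t) ?_]
    · exact hsU
    · show bc cL (bc M.val e) ∉ t.asIdeal
      rw [hcomm]
      have hq : PrimeSpectrum.comap (algebraMap (N ⊗[K] E) (Localization.Away eN)) q ∈
          (PrimeSpectrum.basicOpen eN : Set _) :=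
        mem_of_away eN q
      rw [← ht] at hq
      exact hq
  obtain ⟨u, hu⟩ : ∃ u, Spec.map u ≫ hU.fromSpec =
      Spec.map (CommRingCat.ofHom (algebraMap (L ⊗[K] E) (Localization.Away eL))) ≫ φ :=
    ⟨Spec.preimage (IsOpenImmersion.lift hU.fromSpec _ hL), by rw [Spec.map_preimage, IsOpenImmersion.lift_fac]⟩
  obtain ⟨v, hv⟩ : ∃ v, Spec.map v ≫ hU.fromSpec =
      Spec.map (CommRingCat.ofHom (algebraMap (N ⊗[K] E) (Localization.Away eN))) ≫ ψ :=
    ⟨Spec.preimage (IsOpenImmersion.lift hU.fromSpec _ hNr), by rw [Spec.map_preimage, IsOpenImmersion.lift_fac]⟩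
  let e' := bc cL eL
  let pL : Localization.Away eL →+* Localization.Away e' := Localization.awayMap (bc (E := E) cL).toRingHom eL
  have hpL : pL.comp (algebraMap (L ⊗[K] E) (Localization.Away eL)) =
      (algebraMap (L' ⊗[K] E) (Localization.Away e')).comp (bc (E := E) cL).toRingHom := away_map_comp _ eL
  obtain ⟨pN, hpN⟩ := exists_away_lift
    ((algebraMap (L' ⊗[K] E) (Localization.Away e')).comp (bc (E := E) N.val).toRingHom) eN
    (by rw [RingHom.comp_apply]; show IsUnit (algebraMap _ _ (bc N.val (bc eM e)))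
        rw [← hcomm]; exact IsLocalization.Away.algebraMap_isUnit e')
  have huv : u ≫ CommRingCat.ofHom pL = v ≫ CommRingCat.ofHom pN := by
    apply Spec.map_injective
    rw [Spec.map_comp, Spec.map_comp, ← cancel_mono hU.fromSpec, Category.assoc, Category.assoc, hu, hv,
      ← Category.assoc, ← Category.assoc, ← Spec.map_comp, ← Spec.map_comp, ← CommRingCat.ofHom_comp,
      ← CommRingCat.ofHom_comp, hpL, hpN, CommRingCat.ofHom_comp, CommRingCat.ofHom_comp, Spec.map_comp,
      Spec.map_comp, Category.assoc, Category.assoc, h]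
  -- the ring map over `M`
  let pM : Localization.Away e →+* Localization.Away eL := Localization.awayMap (bc (E := E) M.val).toRingHom e
  have hpM : ∀ a : M ⊗[K] E, pM (algebraMap (M ⊗[K] E) (Localization.Away e) a) =
      algebraMap (L ⊗[K] E) (Localization.Away eL) (bc (E := E) M.val a) := fun a =>
    RingHom.congr_fun (away_map_comp (bc (E := E) M.val).toRingHom e) a
  have hpMi : Function.Injective pM := by
    refine (injective_iff_map_eq_zero pM).2 fun y hy => ?_
    obtain ⟨a, rfl⟩ := surjective_away he y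
    have hy' : algebraMap (L ⊗[K] E) (Localization.Away eL) (bc M.val a) = 0 :=
      (hpM a).symm.trans hy
    obtain ⟨⟨_, n, rfl⟩, hn⟩ := (IsLocalization.map_eq_zero_iff (Submonoid.powers eL) _ _).1 hy'
    refine (IsLocalization.map_eq_zero_iff (Submonoid.powers e) _ _).2 ⟨⟨e ^ n, n, rfl⟩, ?_⟩
    refine bc_injective M.val M.val.injective ?_
    rw [map_mul, map_pow, map_zero]
    exact hn
  have hmem : ∀ a, u.hom a ∈ pM.range := fun a => by
    have heL : IsIdempotentElem eL := he.map (bc (E := E) M.val)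
    have heN : IsIdempotentElem eN := he.map (bc (E := E) eM)
    obtain ⟨w, hw⟩ := surjective_away heL (u.hom a)
    obtain ⟨v₀, hv₀⟩ := surjective_away heN (v.hom a)
    have hw' : algebraMap (L ⊗[K] E) (Localization.Away eL) (eL * w) = u.hom a := by
      rw [map_mul, ← hw]
      have : algebraMap (L ⊗[K] E) (Localization.Away eL) eL = 1 := by
        have hu := IsLocalization.Away.algebraMap_isUnit (S := Localization.Away eL) eL
        exact hu.mul_right_injective (by simp only [← map_mul, heL.eq, mul_one])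
      rw [this, one_mul]
    have h1 : pL (algebraMap _ _ w) = pN (algebraMap _ _ v₀) := by
      rw [hw, hv₀]; exact congrArg (fun g => g.hom a) huv
    rw [← RingHom.comp_apply, hpL, ← RingHom.comp_apply pN, hpN] at h1
    obtain ⟨⟨_, n, rfl⟩, hn⟩ := (IsLocalization.eq_iff_exists (Submonoid.powers e') _).1 h1
    have he' : IsIdempotentElem e' := heL.map (bc (E := E) cL)
    have hn' : bc cL (eL * w) = bc N.val (eN * v₀) := by
      rw [map_mul, map_mul, ← hcomm e]
      show e' * bc cL w = e' * bc N.val v₀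
      have hn2 : e' ^ n * bc cL w = e' ^ n * bc N.val v₀ := hn
      rcases n with _ | n
      · rw [pow_zero, one_mul, one_mul] at hn2; rw [hn2]
      · rw [← he'.pow_succ_eq n]; exact hn2
    let b := Module.finBasis K E
    obtain ⟨z, hz⟩ := exists_eq_bc b M (eL * w) fun i => by
      refine (hM _).2 ?_
      show cL (coord b L i (eL * w)) ∈ N
      rw [← coord_bc, hn', coord_bc]
      exact (coord b N i (eN * v₀)).2
    refine RingHom.mem_range.2 ⟨_, (hpM z).trans ?_⟩
    exact (congrArg _ hz).trans hw'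
  let eq' : Localization.Away e ≃+* pM.range :=
    RingEquiv.ofBijective pM.rangeRestrict ⟨fun a b h => hpMi (congrArg Subtype.val h), pM.rangeRestrict_surjective⟩
  let u₀ : Γ(X, U) →+* Localization.Away e := eq'.symm.toRingHom.comp (u.hom.codRestrict pM.range hmem)
  refine ⟨e, Spec.map (CommRingCat.ofHom u₀) ≫ hU.fromSpec, hS.symm, ?_⟩
  rw [← Category.assoc, ← Spec.map_comp, ← hu, ← CommRingCat.ofHom_comp]
  congr 2
  ext a
  exact congrArg Subtype.val (eq'.apply_symm_apply ⟨u.hom a, hmem a⟩)

include hN hM in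
/-- A morphism out of `Spec (L ⊗ E)` defined over `N` after extension is defined over `M`. -/
theorem exists_factor {X : Scheme.{u}} (φ : Sp (L ⊗[K] E) ⟶ X) (ψ : Sp (N ⊗[K] E) ⟶ X)
    (h : Spec.map (CommRingCat.ofHom (bc (E := E) cL).toRingHom) ≫ φ =
      Spec.map (CommRingCat.ofHom (bc (E := E) N.val).toRingHom) ≫ ψ) :
    ∃ θ : Sp (M ⊗[K] E) ⟶ X, Spec.map (CommRingCat.ofHom (bc (E := E) M.val).toRingHom) ≫ θ = φ := by
  choose e θ he hθ using exists_factor_point N hN M hM φ ψ h
  obtain ⟨Θ, hΘ⟩ := exists_glue (R := M ⊗[K] E) e he θ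
  refine ⟨Θ, hom_ext_away (fun r => bc (E := E) M.val (e r))
    (fun s => ⟨PrimeSpectrum.comap (bc (E := E) M.val).toRingHom s, ((he (PrimeSpectrum.comap (bc (E := E) M.val).toRingHom s)).ge rfl :)⟩) _ _ fun r => ?_⟩
  rw [← hθ r, ← hΘ r, ← Category.assoc, ← Category.assoc, ← Spec.map_comp, ← Spec.map_comp,
    ← CommRingCat.ofHom_comp, ← CommRingCat.ofHom_comp]
  exact congrArg (fun g => Spec.map (CommRingCat.ofHom g) ≫ Θ) (away_map_comp (bc (E := E) M.val).toRingHom (e r)).symm

end Groth.Agent.QuotEdLib
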