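import Groth.Agent.DimFormulaLib.Field
import Groth.Agent.DimFormulaLib.FibrePoints
import Groth.Agent.GeomIrred.CurvPoint
import Mathlib.FieldTheory.AlgebraicClosure
import Mathlib.RingTheory.AlgebraicIndependent.Transcendental

/-!
The bound on transcendence degrees.
-/

set_option autoImplicit false
set_option backward.isDefEq.respectTransparency false
set_option backward.isDefEq.respectTransparency.types false
set_option linter.style.haveILetI false
universe u

open CategoryTheory AlgebraicGeometry Cardinal

noncomputable section

namespace Groth.Agent.QuotEdLib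

section Fields

variable {k K L' : Type u} [Field k] [Field K] [Field L'] [Algebra k K] [Algebra K L'] [Algebra k L']
  [IsScalarTower k K L']

/-- A field of definition over `K` containing a given subfield, algebraically closed in the overfield. -/
theorem exists_field (F : IntermediateField k L') : ∃ N : IntermediateField K L',
    (∀ x : L', IsAlgebraic K x → x ∈ N) ∧ (F : Set L') ⊆ N ∧
      Algebra.trdeg k N ≤ Algebra.trdeg k K + Algebra.trdeg k F := by
  obtain ⟨t, ht⟩ := exists_isTranscendenceBasis k F
  let s : Set L' := Subtype.val '' t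
  let A := IntermediateField.adjoin K s
  let N : IntermediateField K L' := (algebraicClosure A L').restrictScalars K
  have hsN : s ⊆ N := fun x hx => mem_algebraicClosure_iff.2
    (isAlgebraic_algebraMap (⟨x, IntermediateField.subset_adjoin K s hx⟩ : A))
  refine ⟨N, fun x hx => mem_algebraicClosure_iff.2 (hx.tower_top A), fun x hx => ?_, ?_⟩
  · refine mem_algebraicClosure_iff.2 ?_
    haveI := ht.isAlgebraic
    obtain ⟨p, hp, hpx⟩ := Algebra.IsAlgebraic.isAlgebraic (R := Algebra.adjoin k (Set.range ((↑) : t → F)))
      (⟨x, hx⟩ : F)
    -- transport along the inclusion into the adjoined field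
    have hle : ∀ a : Algebra.adjoin k (Set.range ((↑) : t → F)), ((a : F) : L') ∈ A := fun a => by
      have : Algebra.adjoin k (Set.range ((↑) : t → F)) ≤ (A.toSubalgebra.restrictScalars k).comap F.val := by
        refine Algebra.adjoin_le ?_
        rintro _ ⟨b, rfl⟩
        exact IntermediateField.subset_adjoin K s ⟨b.1, b.2, rfl⟩
      exact this a.2
    let ι : Algebra.adjoin k (Set.range ((↑) : t → F)) →+* A :=
      (F.val.toRingHom.comp (Subalgebra.val _).toRingHom).codRestrict A.toSubfield hle
    have hι : Function.Injective ι := fun a b h =>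
      Subtype.ext (F.val.injective (congrArg (Subtype.val : A → L') h))
    refine ⟨p.map ι, (Polynomial.map_ne_zero_iff hι).2 hp, ?_⟩
    rw [Polynomial.aeval_def, Polynomial.eval₂_map]
    have h2 := congrArg F.val hpx
    rw [Polynomial.aeval_def, map_zero] at h2
    rw [← h2]
    exact (Polynomial.hom_eval₂ p (algebraMap (Algebra.adjoin k (Set.range ((↑) : t → F))) F)
      F.val.toRingHom ⟨x, hx⟩).symm
  · rw [← trdeg_add_eq k K (A := N)]
    gcongr
    rw [← ht.cardinalMk_eq_trdeg]
    let s' : Set N := Subtype.val ⁻¹' s
    haveI : Algebra.IsAlgebraic (Algebra.adjoin K s') N := ⟨fun x => by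
      have hx : IsAlgebraic (Algebra.adjoin K s) (x : L') :=
        IntermediateField.isAlgebraic_adjoin_iff.1 (mem_algebraicClosure_iff.1 x.2)
      have himg : N.val '' s' = s :=
        Set.image_preimage_eq_of_subset (fun y hy => ⟨⟨y, hsN hy⟩, rfl⟩)
      have hmap : (Algebra.adjoin K s').map N.val = Algebra.adjoin K s := by
        rw [AlgHom.map_adjoin, himg]
      let f : Algebra.adjoin K s' →+* Algebra.adjoin K s :=
        (N.val.toRingHom.comp (Subalgebra.val _).toRingHom).codRestrict (Algebra.adjoin K s).toSubsemiring fun a => by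
          show N.val (a : N) ∈ Algebra.adjoin K s
          rw [← hmap]; exact ⟨a, a.2, rfl⟩
      have hf : Function.Surjective f := fun b => by
        obtain ⟨a, ha, hab⟩ : (b : L') ∈ (Algebra.adjoin K s').map N.val := hmap.symm ▸ b.2
        exact ⟨⟨a, ha⟩, Subtype.ext hab⟩
      exact hx.of_ringHom_of_comp_eq f N.val hf Subtype.val_injective rfl⟩
    refine (Algebra.IsAlgebraic.trdeg_le_cardinalMk K s').trans ?_
    refine (mk_preimage_of_injective _ _ Subtype.val_injective).trans mk_image_le

end Fields

section Point

variable {k : Type u} [Field k] (X : Over (Spec (CommRingCat.of k))) [LocallyOfFiniteType X.hom]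

/-- A field point of a scheme over `k` factors through a field of transcendence degree at most the dimension. -/
theorem exists_factor_dim {L' : Type u} [Field L'] [Algebra k L'] (x : Spec (CommRingCat.of L') ⟶ X.left)
    (hx : x ≫ X.hom = Spec.map (CommRingCat.ofHom (algebraMap k L'))) :
    ∃ F : IntermediateField k L',
      ((Cardinal.toENat (Algebra.trdeg k F) : ℕ∞) : WithBot ℕ∞) ≤ topologicalKrullDim X.left ∧
      ∀ (N : Type u) [Field N] (j : N →+* L'), (∀ a ∈ F, a ∈ Set.range j) →
        ∃ y : Spec (CommRingCat.of N) ⟶ X.left, Spec.map (CommRingCat.ofHom j) ≫ y = x := by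
  letI : X.left.Over (Spec (CommRingCat.of k)) := ⟨X.hom⟩
  obtain ⟨⟨z, c⟩, rfl⟩ := (Scheme.SpecToEquivOfField L' X.left).symm.surjective x
  change (Spec.map c ≫ X.left.fromSpecResidueField z) ≫ X.hom = _ at hx
  letI := Curv2.resAlgebra k X.left z
  let cA : X.left.residueField z →ₐ[k] L' :=
    { c.hom with
      commutes' := fun a => by
        have h1 : Spec.map c ≫ Spec.map (CommRingCat.ofHom (Curv2.resMap k X.left z)) =
            Spec.map (CommRingCat.ofHom (algebraMap k L')) := by
          rw [GeomIrred.spec_resMap, ← Category.assoc]; exact hx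
        rw [← Spec.map_comp] at h1
        exact congrArg (fun g => g.hom a) (Spec.map_injective h1) }
  refine ⟨cA.fieldRange, ?_, fun N _ j hj => ?_⟩
  · let e : X.left.residueField z ≃ₐ[k] cA.fieldRange := AlgEquiv.ofInjectiveField cA
    rw [← e.trdeg_eq]
    obtain ⟨a, t, -, ht, -, hz⟩ := DimFormulaLib.field_dims X.hom z
    have h1 : Algebra.trdeg k (X.left.residueField z) = t :=
      (DimFormulaLib.resTrdegAt_over k X.left z).symm.trans ht
    rw [h1, Cardinal.toENat_nat]
    have h2 : topologicalKrullDim ↥(closure ({z} : Set X.left)) ≤ topologicalKrullDim X.left :=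
      topologicalKrullDim_subspace_le _ _
    rw [DimFormulaLib.topologicalKrullDim_closure_singleton, hz] at h2
    exact h2
  · choose g hg using fun b => hj (cA b) ⟨b, rfl⟩
    let d : X.left.residueField z →+* N :=
      { toFun := g
        map_one' := j.injective (by rw [hg, map_one, map_one])
        map_mul' := fun a b => j.injective (by rw [map_mul, hg, hg, hg, map_mul])
        map_zero' := j.injective (by rw [hg, map_zero, map_zero])
        map_add' := fun a b => j.injective (by rw [map_add, hg, hg, hg, map_add]) }
    refine ⟨Spec.map (CommRingCat.ofHom d) ≫ X.left.fromSpecResidueField z, ?_⟩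
    show _ = Spec.map c ≫ X.left.fromSpecResidueField z
    rw [← Category.assoc, ← Spec.map_comp]
    congr 2
    exact CommRingCat.hom_ext (RingHom.ext hg)

end Point

end Groth.Agent.QuotEdLib
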