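import Groth.Agent.QuotEdLib.Algebra
import Groth.Prelude.Def_EssDim
import Groth.Agent.DecSec.QuotFib
import Mathlib.AlgebraicGeometry.Sites.Fpqc

/-!
Points over tensor products of fields, and a finite point of a torsor.
-/

set_option autoImplicit false
set_option backward.isDefEq.respectTransparency false
set_option backward.isDefEq.respectTransparency.types false
set_option linter.style.haveILetI false
universe u

open CategoryTheory CategoryTheory.Limits AlgebraicGeometry TensorProduct EssDim

noncomputable section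

namespace Groth.Agent.QuotEdLib

theorem flat_surjective_field {A B : Type u} [Field A] [Field B] (f : A →+* B) :
    (@Flat ⊓ @Surjective : MorphismProperty Scheme.{u}) (Spec.map (CommRingCat.ofHom f)) := by
  letI := f.toAlgebra
  refine ⟨(HasRingHomProperty.Spec_iff (P := @Flat)).2 ?_, ⟨fun x => ?_⟩⟩
  · exact (inferInstance : Module.Flat A B)
  · obtain ⟨y⟩ : Nonempty ↥(Spec (CommRingCat.of B)) := inferInstanceAs (Nonempty (PrimeSpectrum B))
    haveI : Subsingleton ↥(Spec (CommRingCat.of A)) := inferInstanceAs (Subsingleton (PrimeSpectrum A))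
    exact ⟨y, Subsingleton.elim _ _⟩

theorem flat_surjective_pullback {S : Scheme.{u}} {A B C D : Over S} {a : A ⟶ B} {b : A ⟶ C} {c : B ⟶ D} {d : C ⟶ D}
    (h : IsPullback a b c d) (hc : (@Flat ⊓ @Surjective : MorphismProperty Scheme.{u}) c.left) :
    (@Flat ⊓ @Surjective : MorphismProperty Scheme.{u}) b.left :=
  MorphismProperty.of_isPullback (h.map (Over.forget S)) hc

theorem epi_over {S : Scheme.{u}} {A B : Over S} (f : A ⟶ B)
    (hf : (@Flat ⊓ @Surjective : MorphismProperty Scheme.{u}) f.left) : Epi f := by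
  haveI : Flat f.left := hf.1
  haveI : Surjective f.left := hf.2
  haveI := Flat.epi_of_flat_of_surjective f.left
  exact ⟨fun {Z} g h e => Over.OverMorphism.ext ((cancel_epi f.left).1 (congrArg (fun m : A ⟶ Z => m.left) e))⟩

variable {k : Type u} [Field k] {K : Type u} [Field K] [Algebra k K] {E : Type u} [Field E] [Algebra K E]
  [Algebra k E] [IsScalarTower k K E]
variable (V : Type u) [Field V] [Algebra k V] [Algebra K V] [IsScalarTower k K V]

local notation "pt'" => SGA7.pt (K := k)

variable (K) in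
/-- The structure map to the point of the intermediate field. -/
abbrev resK : pt' V ⟶ pt' K := resPt (IsScalarTower.toAlgHom k K V)

variable (k K E) in
/-- The spectrum of `V ⊗ E` over `k`. -/
abbrev TF : Over (Spec (CommRingCat.of k)) :=
  Over.mk (Spec.map (CommRingCat.ofHom (Algebra.TensorProduct.includeLeftRingHom : V →+* V ⊗[K] E)) ≫ (pt' V).hom)

variable (k K E) in
/-- The first projection. -/
abbrev pr1 : TF k K E V ⟶ pt' V :=
  Over.homMk (Spec.map (CommRingCat.ofHom (Algebra.TensorProduct.includeLeftRingHom : V →+* V ⊗[K] E))) rfl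

variable (k K E) in
/-- The second projection. -/
abbrev pr2 : TF k K E V ⟶ pt' E :=
  Over.homMk (Spec.map (CommRingCat.ofHom (Algebra.TensorProduct.includeRight : E →ₐ[K] V ⊗[K] E).toRingHom)) (by
    show _ ≫ Spec.map _ = _ ≫ Spec.map _
    rw [← Spec.map_comp, ← Spec.map_comp, ← CommRingCat.ofHom_comp, ← CommRingCat.ofHom_comp]
    congr 2
    refine RingHom.ext fun a => ?_
    show (1 : V) ⊗ₜ[K] algebraMap k E a = algebraMap k V a ⊗ₜ[K] (1 : E)
    rw [IsScalarTower.algebraMap_apply k K E, IsScalarTower.algebraMap_apply k K V]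
    exact (Algebra.TensorProduct.tmul_one_eq_one_tmul (algebraMap k K a)).symm)

theorem isPullback_TF : IsPullback (pr1 k K E V) (pr2 k K E V) (resK K V) (resK K E) := by
  have h := isPullback_SpecMap_of_isPushout _ _ _ _ (CommRingCat.isPushout_tensorProduct K V E)
  exact IsPullback.of_map (Over.forget _) (Over.OverMorphism.ext h.w) h

theorem flat_surjective_pr1 : (@Flat ⊓ @Surjective : MorphismProperty Scheme.{u}) (pr1 k K E V).left :=
  flat_surjective_pullback (isPullback_TF V).flip (flat_surjective_field _)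

variable {V} {W : Type u} [Field W] [Algebra k W] [Algebra K W] [IsScalarTower k K W]

theorem resPt_resK (f : V →ₐ[K] W) : resPt (f.restrictScalars k) ≫ resK K V = resK K W := by
  rw [← resPt_comp]
  congr 1
  exact AlgHom.ext fun a => f.commutes a

/-- Functoriality in the first factor. -/
def mapTF (f : V →ₐ[K] W) : TF k K E W ⟶ TF k K E V :=
  (isPullback_TF V).lift (pr1 k K E W ≫ resPt (f.restrictScalars k)) (pr2 k K E W)
    (by rw [Category.assoc, resPt_resK, (isPullback_TF W).w])

theorem mapTF_pr1 (f : V →ₐ[K] W) :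
    mapTF (k := k) (E := E) f ≫ pr1 k K E V = pr1 k K E W ≫ resPt (f.restrictScalars k) :=
  (isPullback_TF V).lift_fst _ _ _

theorem mapTF_pr2 (f : V →ₐ[K] W) : mapTF (k := k) (E := E) f ≫ pr2 k K E V = pr2 k K E W :=
  (isPullback_TF V).lift_snd _ _ _

theorem mapTF_left (f : V →ₐ[K] W) :
    (mapTF (k := k) (E := E) f).left = Spec.map (CommRingCat.ofHom (bc (E := E) f).toRingHom) := by
  refine ((isPullback_TF (k := k) (E := E) V).map (Over.forget _)).hom_ext
    ((congrArg (fun m : TF k K E W ⟶ pt' V => m.left) (mapTF_pr1 f)).trans ?_)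
    ((congrArg (fun m : TF k K E W ⟶ pt' E => m.left) (mapTF_pr2 f)).trans ?_)
  · show Spec.map _ ≫ Spec.map _ = Spec.map _ ≫ Spec.map _
    rw [← Spec.map_comp, ← Spec.map_comp, ← CommRingCat.ofHom_comp, ← CommRingCat.ofHom_comp]
    congr 2
  · show Spec.map _ = Spec.map _ ≫ Spec.map _
    rw [← Spec.map_comp, ← CommRingCat.ofHom_comp]
    congr 2
    refine RingHom.ext fun a => ?_
    show (1 : W) ⊗ₜ[K] a = bc f (1 ⊗ₜ[K] a)
    simp [bc]

variable (k K) in
/-- A finite point of a morphism with sections locally for the fppf topology. -/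
theorem exists_finite_point {P₀ : Over (Spec (CommRingCat.of k))} (π₀ : P₀ ⟶ pt' K)
    (h : NonAbH1.IsLocallyTrivialFor Scheme.fppfPrecoverage (Over.mk π₀.left : Over (pt' K).left)) :
    ∃ (E' : Type u) (_ : Field E') (_ : Algebra k E') (_ : Algebra K E') (_ : IsScalarTower k K E'),
      FiniteDimensional K E' ∧ ∃ p : pt' E' ⟶ P₀, p ≫ π₀ = resK K E' := by
  obtain ⟨R, hR, hsec⟩ := h
  obtain ⟨J', Z, g, rfl⟩ := Presieve.exists_eq_ofArrows R
  have hR' := (Scheme.ofArrows_mem_precoverage_iff _).1 hR
  obtain ⟨z₀⟩ : Nonempty ↥(pt' K).left := inferInstanceAs (Nonempty (PrimeSpectrum K))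
  obtain ⟨i, w, -⟩ := hR'.1 z₀
  obtain ⟨s, hs⟩ := hsec (g i) ⟨i⟩
  haveI : LocallyOfFinitePresentation (g i) := (hR'.2 i).2
  haveI : LocallyOfFiniteType (g i) := inferInstance
  haveI : Nonempty ↥(Z i) := ⟨w⟩
  let f : Z i ⟶ Spec (CommRingCat.of K) := g i
  haveI : LocallyOfFiniteType f := inferInstanceAs (LocallyOfFiniteType (g i))
  haveI : JacobsonSpace ↥(Z i) := LocallyOfFiniteType.jacobsonSpace f
  obtain ⟨x, -, hx⟩ := nonempty_inter_closedPoints (Z := (Set.univ : Set ↥(Z i))) Set.univ_nonempty
    isOpen_univ.isLocallyClosed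
  haveI : IsClosedImmersion ((Z i).fromSpecResidueField x) :=
    isClosed_singleton_iff_isClosedImmersion.1 (mem_closedPoints_iff.mp hx)
  obtain ⟨φ, hφ⟩ := Spec.map_surjective ((Z i).fromSpecResidueField x ≫ f)
  letI : Algebra K ((Z i).residueField x) := φ.hom.toAlgebra
  letI : Algebra k ((Z i).residueField x) := (φ.hom.comp (algebraMap k K)).toAlgebra
  haveI : IsScalarTower k K ((Z i).residueField x) := .of_algebraMap_eq fun _ => rfl
  haveI : Algebra.FiniteType K ((Z i).residueField x) := by
    have h : LocallyOfFiniteType (Spec.map φ) := by rw [hφ]; infer_instance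
    exact (HasRingHomProperty.Spec_iff (P := @LocallyOfFiniteType)).1 h
  refine ⟨(Z i).residueField x, inferInstance, inferInstance, inferInstance, inferInstance,
    finite_of_finite_type_of_isJacobsonRing K _, ?_⟩
  have hl : ((Z i).fromSpecResidueField x ≫ s) ≫ π₀.left = Spec.map φ := by
    rw [hφ, Category.assoc]; exact congrArg ((Z i).fromSpecResidueField x ≫ ·) hs
  refine ⟨Over.homMk ((Z i).fromSpecResidueField x ≫ s) ?_, Over.OverMorphism.ext hl⟩
  show _ ≫ P₀.hom = Spec.map _
  rw [← Over.w π₀, ← Category.assoc]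
  erw [hl]
  show Spec.map φ ≫ Spec.map _ = _
  rw [← Spec.map_comp]
  rfl

end Groth.Agent.QuotEdLib
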