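import Groth.Agent.QuotEdLib.Descend
import Groth.Agent.QuotEdLib.Field
import Groth.Agent.QuotEdLib.Tensor

/-!
Descent of an object of a quotient stack.
-/

set_option autoImplicit false
set_option backward.isDefEq.respectTransparency false
set_option backward.isDefEq.respectTransparency.types false
set_option linter.style.haveILetI false
set_option maxHeartbeats 1600000
universe u

open CategoryTheory CategoryTheory.Limits MonoidalCategory CartesianMonoidalCategory AlgebraicGeometry EssDim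

noncomputable section

namespace Groth.Agent.QuotEdLib

variable {k : Type u} [Field k] {G X : Over (Spec (CommRingCat.of k))} [GrpObj G]

local notation "pt'" => SGA7.pt (K := k)

theorem flat_surjective_mapTF {K E V W : Type u} [Field K] [Field E] [Field V] [Field W] [Algebra k K] [Algebra k E]
    [Algebra k V] [Algebra k W] [Algebra K E] [Algebra K V] [Algebra K W] [IsScalarTower k K E] [IsScalarTower k K V]
    [IsScalarTower k K W] (f : V →ₐ[K] W) :
    (@Flat ⊓ @Surjective : MorphismProperty Scheme.{u}) (mapTF (k := k) (E := E) f).left := by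
  have h : IsPullback (mapTF (k := k) (E := E) f) (pr1 k K E W) (pr1 k K E V) (resPt (f.restrictScalars k)) :=
    IsPullback.of_right (by rw [mapTF_pr2, resPt_resK]; exact (isPullback_TF W).flip) (mapTF_pr1 f)
      (isPullback_TF V).flip
  exact flat_surjective_pullback h.flip (flat_surjective_field _)

theorem algebraic_resPt {A B : Type u} [Field A] [Field B] [Algebra k A] [Algebra k B] (f : A →ₐ[k] B) :
    (@Flat ⊓ @Surjective : MorphismProperty Scheme.{u}) (resPt f).left := flat_surjective_field _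

/-- Descent of the equivariant map along an extension of fields, from a morphism on a trivialising cover. -/
theorem descend_map (aX : AlgGrp.Action G X) {K E M L : Type u} [Field K] [Field E] [Field M] [Field L]
    [Algebra k K] [Algebra k E] [Algebra k M] [Algebra k L] [Algebra K E] [Algebra K M] [Algebra K L]
    [IsScalarTower k K E] [IsScalarTower k K M] [IsScalarTower k K L] [FiniteDimensional K E] (ι : M →ₐ[K] L)
    {P₀ P₁ P : Over (Spec (CommRingCat.of k))} {π₀ : P₀ ⟶ pt' K} {π₁ : P₁ ⟶ pt' M} {π : P ⟶ pt' L}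
    (a₁ : AlgGrp.Action G P₁) (a : AlgGrp.Action G P)
    (c₁ : IsPullback a₁.act (snd G P₁) π₁ π₁) (c : IsPullback a.act (snd G P) π π)
    {φ : P ⟶ X} (heqv : a.act ≫ φ = (G ◁ φ) ≫ aX.act)
    {q₁ : P₁ ⟶ P₀} (hq₁ : IsPullback q₁ π₁ π₀ (resK K M))
    {τ : P ⟶ P₁} (hτ : IsPullback τ π π₁ (resPt (ι.restrictScalars k))) (hτe : a.act ≫ τ = (G ◁ τ) ≫ a₁.act)
    {p : pt' E ⟶ P₀} (pM : TF k K E M ⟶ P₁) (hpM₁ : pM ≫ q₁ = pr2 k K E M ≫ p) (hpM₂ : pM ≫ π₁ = pr1 k K E M)
    (pL : TF k K E L ⟶ P) (hpL : pL ≫ τ = mapTF ι ≫ pM) (hpL₂ : pL ≫ π = pr1 k K E L)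
    (θ : TF k K E M ⟶ X) (hθ : mapTF ι ≫ θ = pL ≫ φ) :
    ∃ φ₁ : P₁ ⟶ X, a₁.act ≫ φ₁ = (G ◁ φ₁) ≫ aX.act ∧ τ ≫ φ₁ = φ := by
  let θ₁ : G ⊗ TF k K E M ⟶ P₁ := (G ◁ pM) ≫ a₁.act
  let h' : G ⊗ TF k K E M ⟶ X := (G ◁ θ) ≫ aX.act
  have hsq : IsPullback (snd G (TF k K E M)) θ₁ (pr1 k K E M) π₁ := by
    have := (AlgSt.isPullback_whiskerLeft (G := G) pM).flip.paste_vert c₁.flip
    rwa [hpM₂] at this
  have hθ₁ : (@Flat ⊓ @Surjective : MorphismProperty Scheme.{u}) θ₁.left :=
    flat_surjective_pullback hsq (flat_surjective_pr1 M)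
  have hτfs : (@Flat ⊓ @Surjective : MorphismProperty Scheme.{u}) τ.left :=
    flat_surjective_pullback hτ.flip (algebraic_resPt _)
  -- the comparison
  have key : ∀ (Z : Over (Spec (CommRingCat.of k))) (b : Z ⟶ G ⊗ TF k K E M) (w : Z ⟶ P),
      b ≫ θ₁ = w ≫ τ → b ≫ h' = w ≫ φ := by
    intro Z b w hb
    have e1 : b ≫ snd G _ ≫ pr1 k K E M = w ≫ π ≫ resPt (ι.restrictScalars k) := by
      rw [hsq.w, reassoc_of% hb, hτ.w]
    let l : Z ⟶ TF k K E L := (isPullback_TF L).lift (w ≫ π) (b ≫ snd G _ ≫ pr2 k K E M) (by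
      rw [Category.assoc, Category.assoc, Category.assoc, ← (isPullback_TF M).w, reassoc_of% e1, resPt_resK])
    have hl₁ : l ≫ pr1 k K E L = w ≫ π := (isPullback_TF L).lift_fst _ _ _
    have hl₂ : l ≫ pr2 k K E L = b ≫ snd G _ ≫ pr2 k K E M := (isPullback_TF L).lift_snd _ _ _
    have hlt : l ≫ mapTF ι = b ≫ snd G _ := (isPullback_TF M).hom_ext
      (by rw [Category.assoc, mapTF_pr1, reassoc_of% hl₁, Category.assoc, e1])
      (by rw [Category.assoc, mapTF_pr2, hl₂, Category.assoc])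
    have hw : lift (b ≫ fst G _) (l ≫ pL) ≫ a.act = w := by
      refine hτ.hom_ext ?_ ?_
      · rw [Category.assoc, hτe, lift_whiskerLeft_assoc, Category.assoc, hpL, reassoc_of% hlt,
          ← hb]
        have : lift (b ≫ fst G _) (b ≫ snd G _ ≫ pM) = b ≫ (G ◁ pM) := by
          apply CartesianMonoidalCategory.hom_ext <;> simp
        rw [this, Category.assoc]
      · rw [Category.assoc, c.w, lift_snd_assoc, Category.assoc, hpL₂, hl₁]
    rw [← hw, Category.assoc, heqv, lift_whiskerLeft_assoc, Category.assoc, ← hθ, reassoc_of% hlt]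
    have : lift (b ≫ fst G _) (b ≫ snd G _ ≫ θ) = b ≫ (G ◁ θ) := by
      apply CartesianMonoidalCategory.hom_ext <;> simp
    rw [this, Category.assoc]
  -- descent
  haveI : Flat θ₁.left := hθ₁.1
  haveI : Surjective θ₁.left := hθ₁.2
  haveI : IsAffineHom (pr1 k K E M).left := inferInstanceAs (IsAffineHom (Spec.map _))
  haveI : IsAffineHom θ₁.left := MorphismProperty.of_isPullback (hsq.map (Over.forget _)) ‹IsAffineHom (pr1 k K E M).left›
  haveI : EffectiveEpi θ₁.left := inferInstance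
  let φl : P₁.left ⟶ X.left := EffectiveEpi.desc θ₁.left h'.left (fun {Z} g₁ g₂ hg => by
    have hw₂ : g₂ ≫ (G ⊗ TF k K E M).hom = g₁ ≫ (G ⊗ TF k K E M).hom := by
      rw [← Over.w θ₁, reassoc_of% hg]
    let Zo : Over (Spec (CommRingCat.of k)) := Over.mk (g₁ ≫ (G ⊗ TF k K E M).hom)
    let b₁ : Zo ⟶ G ⊗ TF k K E M := Over.homMk g₁ rfl
    let b₂ : Zo ⟶ G ⊗ TF k K E M := Over.homMk g₂ hw₂
    have hb : b₁ ≫ θ₁ = b₂ ≫ θ₁ := Over.OverMorphism.ext hg
    let e : pullback (b₁ ≫ θ₁) τ ⟶ Zo := pullback.fst _ _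
    haveI : Epi e := epi_over e (flat_surjective_pullback (IsPullback.of_hasPullback (b₁ ≫ θ₁) τ).flip hτfs)
    have k1 := key _ (e ≫ b₁) (pullback.snd _ _) (by rw [Category.assoc]; exact pullback.condition)
    have k2 := key _ (e ≫ b₂) (pullback.snd _ _) (by rw [Category.assoc, ← hb]; exact pullback.condition)
    rw [← k2, Category.assoc, Category.assoc, cancel_epi] at k1
    exact congrArg (fun m : Zo ⟶ X => m.left) k1)
  have hφl : θ₁.left ≫ φl = h'.left := EffectiveEpi.fac θ₁.left h'.left _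
  let φ₁ : P₁ ⟶ X := Over.homMk φl (by
    haveI := Flat.epi_of_flat_of_surjective θ₁.left
    rw [← cancel_epi θ₁.left, reassoc_of% hφl, Over.w h', Over.w θ₁])
  have hφ₁ : θ₁ ≫ φ₁ = h' := Over.OverMorphism.ext hφl
  have hτφ : τ ≫ φ₁ = φ := by
    haveI : Epi (pullback.snd θ₁ τ) :=
      epi_over _ (flat_surjective_pullback (IsPullback.of_hasPullback θ₁ τ) hθ₁)
    rw [← cancel_epi (pullback.snd θ₁ τ), ← pullback.condition_assoc, hφ₁]
    exact key _ _ _ pullback.condition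
  refine ⟨φ₁, ?_, hτφ⟩
  haveI : Epi (G ◁ τ) := epi_over _ (flat_surjective_pullback (AlgSt.isPullback_whiskerLeft τ).flip hτfs)
  rw [← cancel_epi (G ◁ τ), ← reassoc_of% hτe, hτφ, heqv, ← MonoidalCategory.whiskerLeft_comp_assoc, hτφ]

/-- The object descends to a field of small transcendence degree. -/
theorem exists_descends [IsAffineHom G.hom] [LocallyOfFiniteType X.hom] (aX : AlgGrp.Action G X)
    [FibCat.IsFibGrpd (AlgSt.QuotSt Scheme.fppfPrecoverage G aX).p]
    [FibCat.IsFibGrpd (AlgSt.BG Scheme.fppfPrecoverage G).p]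
    {L : Type u} [Field L] [Algebra k L] (P : Over (Spec (CommRingCat.of k))) (a : AlgGrp.Action G P)
    (π : P ⟶ pt' L) (c : IsPullback a.act (snd G P) π π)
    (hl : NonAbH1.IsLocallyTrivialFor Scheme.fppfPrecoverage (Over.mk π.left : Over (pt' L).left))
    (φ : P ⟶ X) (heqv : a.act ≫ φ = (G ◁ φ) ≫ aX.act) (K : IntermediateField k L)
    (y₀ : AlgSt.QuotObj Scheme.fppfPrecoverage G (AlgSt.trivAction G)) (hy₀ : y₀.base = pt' K)
    (q : P ⟶ y₀.P) (hq : IsPullback q π (y₀.π ≫ eqToHom hy₀) (resPt K.val))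
    (hqe : a.act ≫ q = (G ◁ q) ≫ y₀.act.act) :
    ∃ M : IntermediateField k L,
      Descends (Gerb.isoClPsh (AlgSt.QuotSt Scheme.fppfPrecoverage G aX))
        (Quot.mk _ (⟨{ base := pt' L, P := P, act := a, π := π, cart := c, loc := hl, φ := φ, eqv := heqv }, rfl⟩ :
          StkCnt.pts (AlgSt.QuotSt Scheme.fppfPrecoverage G aX) L)) M ∧
      ((Cardinal.toENat (Algebra.trdeg k M) : ℕ∞) : WithBot ℕ∞) ≤
        ((Cardinal.toENat (Algebra.trdeg k K) : ℕ∞) : WithBot ℕ∞) + topologicalKrullDim X.left := by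
  obtain ⟨B₀, P₀, act₀, π₀, cart₀, loc₀, φ₀, eqv₀⟩ := y₀
  change B₀ = pt' K at hy₀
  subst hy₀
  rw [eqToHom_refl, Category.comp_id] at hq
  change IsPullback q π π₀ (resPt K.val) at hq
  change a.act ≫ q = (G ◁ q) ≫ act₀.act at hqe
  obtain ⟨E, iE, iEk, iEK, iEt, hEf, p, hp⟩ := exists_finite_point k K π₀ loc₀
  have hKL : resK (k := k) K L = resPt K.val := rfl
  -- the point over the tensor product
  let pL : TF k K E L ⟶ P := hq.lift (pr2 k K E L ≫ p) (pr1 k K E L)
    (by rw [Category.assoc, hp, ← hKL, (isPullback_TF L).w])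
  have hpL₁ : pL ≫ q = pr2 k K E L ≫ p := hq.lift_fst _ _ _
  have hpL₂ : pL ≫ π = pr1 k K E L := hq.lift_snd _ _ _
  -- the geometric point
  let L' := AlgebraicClosure L
  let cA : L →ₐ[K] L' := IsScalarTower.toAlgHom K L L'
  let σ : E →ₐ[K] L' := IsAlgClosed.lift
  let bσ : pt' L' ⟶ TF k K E L := (isPullback_TF L).lift (resPt (cA.restrictScalars k))
    (resPt (σ.restrictScalars k)) (by rw [resPt_resK, resPt_resK])
  let x : pt' L' ⟶ X := bσ ≫ pL ≫ φ
  obtain ⟨F, hFdim, hFfac⟩ := exists_factor_dim X x.left (Over.w x)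
  obtain ⟨N, hN, hFN, hNdim⟩ := exists_field (K := K) F
  let MK : IntermediateField K L := N.comap cA
  have hM : ∀ a : L, a ∈ MK ↔ algebraMap L L' a ∈ N := fun a => Iff.rfl
  obtain ⟨y, hy⟩ := hFfac N N.val.toRingHom (fun b hb => ⟨⟨b, hFN hb⟩, rfl⟩)
  let xN : pt' N ⟶ X := Over.homMk y (by
    haveI := Flat.epi_of_flat_of_surjective (Spec.map (CommRingCat.ofHom N.val.toRingHom))
    haveI := (flat_surjective_field N.val.toRingHom).1
    haveI := (flat_surjective_field N.val.toRingHom).2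
    refine (cancel_epi (Spec.map (CommRingCat.ofHom N.val.toRingHom))).1 ?_
    rw [← Category.assoc, hy, Over.w x]
    exact (Over.w (resPt (N.val.restrictScalars k))).symm)
  have hxN : resPt (N.val.restrictScalars k) ≫ xN = x := Over.OverMorphism.ext hy
  -- the group element
  let g : TF k K E E ⟶ G ⊗ P₀ := cart₀.lift (pr2 k K E E ≫ p) (pr1 k K E E ≫ p)
    (by rw [Category.assoc, Category.assoc, hp, (isPullback_TF E).w])
  let σN : E →ₐ[K] N := σ.codRestrict N.toSubalgebra fun e => hN _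
    ((Algebra.IsAlgebraic.isAlgebraic (R := K) e).algHom σ)
  let gN : TF k K E N ⟶ G := mapTF σN ≫ g ≫ fst G P₀
  let ψ : TF k K E N ⟶ X := lift gN (pr1 k K E N ≫ xN) ≫ aX.act
  have hψ : mapTF cA ≫ pL ≫ φ = mapTF N.val ≫ ψ := by
    let b : TF k K E L' ⟶ P := pr1 k K E L' ≫ bσ ≫ pL
    have hb : lift (mapTF N.val ≫ gN) b ≫ a.act = mapTF cA ≫ pL := by
      refine hq.hom_ext ?_ ?_
      · have e2 : b ≫ q = mapTF N.val ≫ mapTF σN ≫ g ≫ snd G P₀ := by
          simp only [b, g, IsPullback.lift_snd, Category.assoc, hpL₁]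
          rw [reassoc_of% ((isPullback_TF L).lift_snd _ _ _ : bσ ≫ pr2 k K E L = _), reassoc_of% (mapTF_pr1 σN),
            reassoc_of% (mapTF_pr1 N.val)]
          rw [← Category.assoc (resPt (N.val.restrictScalars k)), ← resPt_comp]
          rfl
        rw [Category.assoc, hqe, lift_whiskerLeft_assoc, e2]
        have e3 : lift (mapTF N.val ≫ gN) (mapTF N.val ≫ mapTF σN ≫ g ≫ snd G P₀) =
            mapTF (k := k) (E := E) N.val ≫ mapTF σN ≫ g := by
          apply CartesianMonoidalCategory.hom_ext <;> simp [gN]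
        rw [e3]
        simp only [Category.assoc, g, IsPullback.lift_fst, hpL₁]
        rw [reassoc_of% (mapTF_pr2 (k := k) σN), reassoc_of% (mapTF_pr2 (k := k) (E := E) N.val),
          reassoc_of% (mapTF_pr2 (k := k) (E := E) cA)]
      · have e5 : b ≫ π = pr1 k K E L' ≫ resPt (cA.restrictScalars k) := by
          simp only [b, Category.assoc, hpL₂, bσ, IsPullback.lift_fst]
        rw [Category.assoc, c.w, lift_snd_assoc, e5, Category.assoc, hpL₂, mapTF_pr1]
    rw [← Category.assoc, ← hb, Category.assoc, heqv, lift_whiskerLeft_assoc]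
    have e4 : b ≫ φ = mapTF N.val ≫ pr1 k K E N ≫ xN := by
      rw [reassoc_of% (mapTF_pr1 (k := k) (E := E) N.val), hxN]
      exact (Category.assoc _ _ _).trans (congrArg (pr1 k K E L' ≫ ·) (Category.assoc _ _ _))
    rw [e4, ← comp_lift_assoc]
  -- descent of the morphism
  have hψ' := congrArg (fun m : TF k K E L' ⟶ X => m.left) hψ
  simp only [Over.comp_left] at hψ'
  rw [mapTF_left, mapTF_left] at hψ'
  obtain ⟨θl, hθl⟩ := exists_factor (E := E) N hN MK hM (pL.left ≫ φ.left) ψ.left hψ'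
  let θ : TF k K E MK ⟶ X := Over.homMk θl (by
    haveI : Flat (mapTF (k := k) (E := E) MK.val).left := by
      exact (flat_surjective_mapTF MK.val).1
    haveI : Surjective (mapTF (k := k) (E := E) MK.val).left := (flat_surjective_mapTF MK.val).2
    haveI := Flat.epi_of_flat_of_surjective (mapTF (k := k) (E := E) MK.val).left
    rw [← cancel_epi (mapTF (k := k) (E := E) MK.val).left, Over.w (mapTF (k := k) (E := E) MK.val), ← Category.assoc,
      mapTF_left, hθl, Category.assoc, Over.w φ, Over.w pL])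
  have hθ : mapTF MK.val ≫ θ = pL ≫ φ := Over.OverMorphism.ext (by
    show (mapTF (k := k) (E := E) MK.val).left ≫ θl = _
    rw [mapTF_left, hθl]; rfl)
  -- the descended torsor
  haveI : Scheme.fppfPrecoverage.{u}.IsStableUnderBaseChange := inferInstance
  obtain ⟨y₁, ψ₁, hψ₁⟩ := (DecSec.QuotSch.isFibGrpd_quot (K := Scheme.fppfPrecoverage) (G := G)
    (aX := AlgSt.trivAction G)).exists_lift
      (x := (⟨pt' K, P₀, act₀, π₀, cart₀, loc₀, φ₀, eqv₀⟩ : AlgSt.QuotObj Scheme.fppfPrecoverage G (AlgSt.trivAction G)))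
      (resK (k := k) K MK)
  obtain ⟨B₁, P₁, a₁, π₁, c₁, loc₁, φb, eqvb⟩ := y₁
  obtain rfl : B₁ = pt' MK := IsHomLift.domain_eq (AlgSt.QuotObj.forget _ _ _) (resK (k := k) K MK) ψ₁
  have hbase : resK (k := k) K MK = ψ₁.base :=
    IsHomLift.eq_of_isHomLift
      (AlgSt.QuotObj.forget Scheme.fppfPrecoverage G (AlgSt.trivAction G))
      (a := ⟨pt' MK, P₁, a₁, π₁, c₁, loc₁, φb, eqvb⟩) (b := ⟨pt' K, P₀, act₀, π₀, cart₀, loc₀, φ₀, eqv₀⟩)
      (resK (k := k) K MK) ψ₁
  let q₁ : P₁ ⟶ P₀ := ψ₁.top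
  have hq₁e : a₁.act ≫ q₁ = (G ◁ q₁) ≫ act₀.act := ψ₁.eqv
  have hq₁ : IsPullback q₁ π₁ π₀ (resK (k := k) K MK) := by rw [hbase]; exact ψ₁.cart
  let pM : TF k K E MK ⟶ P₁ := hq₁.lift (pr2 k K E MK ≫ p) (pr1 k K E MK)
    (by rw [Category.assoc, hp, (isPullback_TF MK).w])
  have hres : resPt (MK.val.restrictScalars k) ≫ resK (k := k) K MK = resPt K.val := resPt_resK MK.val
  let τ : P ⟶ P₁ := hq₁.lift q (π ≫ resPt (MK.val.restrictScalars k)) (by rw [Category.assoc, hres, hq.w])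
  have hτq : τ ≫ q₁ = q := hq₁.lift_fst _ _ _
  have hτπ : τ ≫ π₁ = π ≫ resPt (MK.val.restrictScalars k) := hq₁.lift_snd _ _ _
  have hτ : IsPullback τ π π₁ (resPt (MK.val.restrictScalars k)) :=
    IsPullback.of_right (by rw [hτq, hres]; exact hq) hτπ hq₁
  have hτe : a.act ≫ τ = (G ◁ τ) ≫ a₁.act := hq₁.hom_ext
    (by rw [Category.assoc, hτq, hqe, Category.assoc, hq₁e, ← MonoidalCategory.whiskerLeft_comp_assoc, hτq])
    (by rw [Category.assoc, hτπ, reassoc_of% c.w, Category.assoc, c₁.w, whiskerLeft_snd_assoc, hτπ])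
  obtain ⟨φ₁, he₁, hτφ⟩ := descend_map aX MK.val a₁ a c₁ c heqv hq₁ hτ hτe pM (hq₁.lift_fst _ _ _)
    (hq₁.lift_snd _ _ _) pL (hq₁.hom_ext
      (by rw [Category.assoc, hτq, hpL₁, Category.assoc, hq₁.lift_fst, reassoc_of% (mapTF_pr2 MK.val)])
      (by rw [Category.assoc, hτπ, reassoc_of% hpL₂, Category.assoc, hq₁.lift_snd, mapTF_pr1])) hpL₂ θ hθ
  refine ⟨MK.restrictScalars k, (descends_isoCl_iff _ _ _).2
    ⟨⟨{ base := pt' MK, P := P₁, act := a₁, π := π₁, cart := c₁, loc := loc₁, φ := φ₁, eqv := he₁ }, rfl⟩,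
      { base := resPt (MK.val.restrictScalars k), top := τ, eqv := hτe, cart := hτ, wφ := hτφ }, ?_⟩, ?_⟩
  · exact IsHomLift.map (AlgSt.QuotObj.forget _ _ _)
      ({ base := resPt (MK.val.restrictScalars k), top := τ, eqv := hτe, cart := hτ, wφ := hτφ } :
        (⟨pt' L, P, a, π, c, hl, φ, heqv⟩ : AlgSt.QuotObj Scheme.fppfPrecoverage G aX) ⟶
          ⟨pt' MK, P₁, a₁, π₁, c₁, loc₁, φ₁, he₁⟩)
  · let jM : MK →ₐ[K] N := (cA.comp MK.val).codRestrict N.toSubalgebra fun m => m.2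
    have h1 : Algebra.trdeg k MK ≤ Algebra.trdeg k K + Algebra.trdeg k F :=
      (trdeg_le_of_injective (jM.restrictScalars k) jM.injective).trans hNdim
    show ((Cardinal.toENat (Algebra.trdeg k MK) : ℕ∞) : WithBot ℕ∞) ≤ _
    refine le_trans (WithBot.coe_le_coe.2 (OrderHomClass.mono Cardinal.toENat h1)) ?_
    rw [map_add, WithBot.coe_add]
    exact add_le_add le_rfl hFdim

end Groth.Agent.QuotEdLib
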